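import Mathlib.RingTheory.PowerSeries.Exp
import Mathlib.Analysis.SpecificLimits.Normed
import Mathlib.Data.Nat.Choose.Sum
import Mathlib.Analysis.Complex.Basic
import Mathlib.Data.Nat.Choose.Cast
import Mathlib.Algebra.BigOperators.Field
import Mathlib.Data.Nat.Cast.Field

/-! Abel sums of `∑ (-1)^k k^j`. -/

set_option autoImplicit false

namespace Groth.Agent.EulerAbel

open Filter Topology Finset

/-- `∑ k^j y^k`. -/
noncomputable def s (j : ℕ) (y : ℂ) : ℂ := ∑' k : ℕ, (k : ℂ) ^ j * y ^ k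

theorem hasSum_s (j : ℕ) {y : ℂ} (hy : ‖y‖ < 1) : HasSum (fun k : ℕ => (k : ℂ) ^ j * y ^ k) (s j y) :=
  (summable_pow_mul_geometric_of_norm_lt_one j hy).hasSum

theorem s_rec (j : ℕ) {y : ℂ} (hy : ‖y‖ < 1) :
    (1 - y) * s j y = (0 : ℂ) ^ j + y * ∑ i ∈ range j, (j.choose i : ℂ) * s i y := by
  have h1 : HasSum (fun k : ℕ => ((k + 1 : ℕ) : ℂ) ^ j * y ^ (k + 1)) (s j y - (0 : ℂ) ^ j) := by
    have h := (hasSum_nat_add_iff' 1).2 (hasSum_s j hy)
    simpa using h
  have h2 : HasSum (fun k : ℕ => ((k + 1 : ℕ) : ℂ) ^ j * y ^ (k + 1))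
      (y * ∑ i ∈ range (j + 1), (j.choose i : ℂ) * s i y) := by
    have h3 : HasSum (fun k : ℕ => y * ∑ i ∈ range (j + 1), (j.choose i : ℂ) * ((k : ℂ) ^ i * y ^ k))
        (y * ∑ i ∈ range (j + 1), (j.choose i : ℂ) * s i y) :=
      (hasSum_sum fun i _ => (hasSum_s i hy).mul_left _).mul_left y
    have e : (fun k : ℕ => y * ∑ i ∈ range (j + 1), (j.choose i : ℂ) * ((k : ℂ) ^ i * y ^ k)) =
        fun k : ℕ => ((k + 1 : ℕ) : ℂ) ^ j * y ^ (k + 1) := funext fun k => by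
      rw [Nat.cast_add, Nat.cast_one, add_pow, Finset.mul_sum, Finset.sum_mul]
      refine Finset.sum_congr rfl fun i _ => ?_
      rw [one_pow, mul_one]
      ring
    rwa [e] at h3
  have h4 := h1.unique h2
  rw [Finset.sum_range_succ, Nat.choose_self, Nat.cast_one, one_mul] at h4
  linear_combination h4

theorem euler_rec (E : ℕ → ℚ) (hE : PowerSeries.mk (fun j => E j / (j.factorial : ℚ)) * (PowerSeries.exp ℚ + 1) = 2)
    (j : ℕ) : 2 * E j + ∑ i ∈ range j, (j.choose i : ℚ) * E i = 2 * (0 : ℚ) ^ j := by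
  have h := congrArg (PowerSeries.coeff j) hE
  rw [mul_add, mul_one, map_add, PowerSeries.coeff_mk, PowerSeries.coeff_mul,
    Finset.Nat.sum_antidiagonal_eq_sum_range_succ_mk, show (2 : PowerSeries ℚ) = PowerSeries.C 2 from (map_ofNat _ 2).symm,
    PowerSeries.coeff_C] at h
  simp only [PowerSeries.coeff_mk, PowerSeries.coeff_exp, Algebra.algebraMap_self, RingHom.id_apply] at h
  have hj : (j.factorial : ℚ) ≠ 0 := by exact_mod_cast j.factorial_ne_zero
  have key : ∀ i ∈ range (j + 1), E i / (i.factorial : ℚ) * (1 / ((j - i).factorial : ℚ)) =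
      (j.choose i : ℚ) * E i / (j.factorial : ℚ) := fun i hi => by
    rw [Nat.cast_choose ℚ (Nat.le_of_lt_succ (Finset.mem_range.1 hi))]
    field_simp
  rw [Finset.sum_congr rfl key, ← Finset.sum_div, Finset.sum_range_succ, Nat.choose_self, Nat.cast_one, one_mul,
    ← add_div, div_eq_iff hj] at h
  rcases Nat.eq_zero_or_pos j with rfl | hpos
  · simp at h ⊢
    linarith
  · rw [if_neg hpos.ne', zero_mul] at h
    rw [zero_pow hpos.ne', mul_zero]
    linarith

theorem tendsto_s (E : ℕ → ℚ) (hE : PowerSeries.mk (fun j => E j / (j.factorial : ℚ)) * (PowerSeries.exp ℚ + 1) = 2)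
    (j : ℕ) : Tendsto (fun y : ℝ => s j (y : ℂ)) (𝓝[Set.Ioo (-1 : ℝ) 1] (-1 : ℝ)) (𝓝 ((E j : ℂ) / 2)) := by
  induction j using Nat.strong_induction_on with
  | _ j ih =>
    have hy : Tendsto (fun y : ℝ => (y : ℂ)) (𝓝[Set.Ioo (-1 : ℝ) 1] (-1 : ℝ)) (𝓝 (-1 : ℂ)) := by
      have := (Complex.continuous_ofReal.tendsto (-1 : ℝ)).mono_left
        (nhdsWithin_le_nhds : 𝓝[Set.Ioo (-1 : ℝ) 1] (-1 : ℝ) ≤ 𝓝 (-1 : ℝ))
      simpa using this
    have hsum := tendsto_finsetSum (range j) fun i hi =>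
      (ih i (Finset.mem_range.1 hi)).const_mul (j.choose i : ℂ)
    have hlim := ((hy.mul hsum).const_add ((0 : ℂ) ^ j)).div (tendsto_const_nhds.sub hy)
      (show (1 : ℂ) - -1 ≠ 0 by norm_num)
    refine (hlim.congr' ?_).trans (le_of_eq (congrArg 𝓝 ?_))
    · filter_upwards [self_mem_nhdsWithin] with y hy1
      have hn : ‖(y : ℂ)‖ < 1 := by
        rw [Complex.norm_real, Real.norm_eq_abs, abs_lt]
        exact hy1
      have hne : (1 : ℂ) - (y : ℂ) ≠ 0 := sub_ne_zero.2 fun h => by simp [← h] at hn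
      show ((0 : ℂ) ^ j + (y : ℂ) * ∑ i ∈ range j, (j.choose i : ℂ) * s i y) / (1 - (y : ℂ)) = s j y
      rw [← s_rec j hn]
      field_simp
    · have hr := congrArg (fun q : ℚ => (q : ℂ)) (euler_rec E hE j)
      push_cast at hr
      have e : ∑ i ∈ range j, (j.choose i : ℂ) * ((E i : ℂ) / 2) =
          (∑ i ∈ range j, (j.choose i : ℂ) * (E i : ℂ)) / 2 := by
        rw [Finset.sum_div]
        exact Finset.sum_congr rfl fun i _ => by ring
      rw [e]
      linear_combination (-1 / 4 : ℂ) * hr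

theorem hasSum_eval {T : Type*} [NormedCommRing T] [NormedAlgebra ℂ T] (P : Polynomial T) {y : ℂ} (hy : ‖y‖ < 1) :
    HasSum (fun k : ℕ => y ^ k • P.eval (k : T))
      (∑ j ∈ range (P.natDegree + 1), s j y • P.coeff j) := by
  have h : HasSum (fun k : ℕ => ∑ j ∈ range (P.natDegree + 1), ((k : ℂ) ^ j * y ^ k) • P.coeff j)
      (∑ j ∈ range (P.natDegree + 1), s j y • P.coeff j) :=
    hasSum_sum fun j _ => (hasSum_s j hy).smul_const (P.coeff j)
  refine (funext fun k : ℕ => ?_ : (fun k : ℕ => y ^ k • P.eval (k : T)) = _) ▸ h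
  rw [Polynomial.eval_eq_sum_range, Finset.smul_sum]
  refine Finset.sum_congr rfl fun j _ => ?_
  rw [Algebra.smul_def, Algebra.smul_def, map_mul, map_pow, map_pow, map_natCast]
  ring

theorem tendsto_eval {T : Type*} [NormedCommRing T] [NormedAlgebra ℂ T]
    (E : ℕ → ℚ) (hE : PowerSeries.mk (fun j => E j / (j.factorial : ℚ)) * (PowerSeries.exp ℚ + 1) = 2)
    (P : Polynomial T) :
    Tendsto (fun y : ℝ => ∑' k : ℕ, ((y : ℂ) ^ k) • P.eval (k : T)) (𝓝[Set.Ioo (-1 : ℝ) 1] (-1 : ℝ))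
      (𝓝 ((2 : ℂ)⁻¹ • ∑ j ∈ range (P.natDegree + 1), ((E j : ℚ) : ℂ) • P.coeff j)) := by
  have h := tendsto_finsetSum (range (P.natDegree + 1)) fun j _ => (tendsto_s E hE j).smul_const (P.coeff j)
  refine (h.congr' ?_).trans (le_of_eq (congrArg 𝓝 ?_))
  · filter_upwards [self_mem_nhdsWithin] with y hy1
    exact ((hasSum_eval P (y := (y : ℂ)) (by rw [Complex.norm_real, Real.norm_eq_abs, abs_lt]; exact hy1)).tsum_eq).symm
  · rw [Finset.smul_sum]
    exact Finset.sum_congr rfl fun j _ => by rw [smul_smul, div_eq_inv_mul]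

end Groth.Agent.EulerAbel
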